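import Cfsg.Agent.H889.C7O.Odd
import Cfsg.Agent.H889.C7O.Alg

/-!
# The main lemma for the exceptional fields (task 1882)

`main_zero` : if `(1 + T ω_j) (1 + S ω_l)` is in the thin overgroup `M`, `T` commuting with slot `j` and `S` with the
slots `j` and `l`, then `S = 0`.
-/

set_option autoImplicit false
set_option linter.unusedSectionVars false

namespace Cfsg.Agent.H889.C7O

open QuadraticMap hiding proj
open Cfsg.Agent.LieClassical.OrthCore Cfsg.Agent.LieClassical.OrthTrans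
open Cfsg.Agent.H882.Ten Cfsg.Agent.LieClassical.OrthFinite
open Cfsg.Agent.H883.C7

section gen

/-- conjugation as an algebra homomorphism -/
def cjA {F : Type*} [Field F] {V : Type*} [AddCommGroup V] [Module F V] (k : V ≃ₗ[F] V) :
    Module.End F V →ₐ[F] Module.End F V :=
  AlgHom.ofLinearMap { toFun := cj k, map_add' := cj_add' k, map_smul' := cj_smul' k } (cj_one' k) (cj_mul' k)

theorem cjA_apply {F : Type*} [Field F] {V : Type*} [AddCommGroup V] [Module F V] (k : V ≃ₗ[F] V)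
    (X : Module.End F V) : cjA k X = cj k X := rfl

theorem neg_one_smul_end {F : Type*} [Field F] {V : Type*} [AddCommGroup V] [Module F V] (X : Module.End F V) :
    (-1 : F) • X = -X := neg_one_smul F X

variable {F : Type*} [Field F] {R : Type*} [Ring R] [Algebra F R]

theorem b_aux {P : R → Prop} (hmul : ∀ X Y, P X → P Y → P (X * Y)) (hinv : ∀ X Y, P X → X * Y = 1 → P Y)
    {oj ol S T T' : R} (hj : oj * oj = 0) (hl : ol * ol = 0) (hT : oj * T = T * oj)
    (hS : ol * S = S * ol) (h : P ((1 + T * oj) * (1 + S * ol))) (h' : P ((1 + T' * oj) * (1 + S * ol))) :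
    P (1 + (T' - T) * oj) := by
  have e1 : ∀ X, oj * X = X * oj → (1 + X * oj) * (1 + -(X * oj)) = 1 := by
    intro X hX
    have : X * oj * (X * oj) = 0 := by rw [mul_assoc, ← mul_assoc oj, hX, mul_assoc X, hj, mul_zero, mul_zero]
    rw [mul_add, mul_one, mul_neg, add_mul, one_mul, this]; simp
  have e2 : (1 + S * ol) * (1 + -(S * ol)) = 1 := by
    have : S * ol * (S * ol) = 0 := by rw [mul_assoc, ← mul_assoc ol, hS, mul_assoc S, hl, mul_zero, mul_zero]
    rw [mul_add, mul_one, mul_neg, add_mul, one_mul, this]; simp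
  have e3 : (1 + T * oj) * (1 + S * ol) * ((1 + -(S * ol)) * (1 + -(T * oj))) = 1 := by
    rw [mul_assoc, ← mul_assoc (1 + S * ol), e2, one_mul, e1 T hT]
  have h3 := hmul _ _ h' (hinv _ _ h e3)
  have e4 : (1 + T' * oj) * (1 + S * ol) * ((1 + -(S * ol)) * (1 + -(T * oj))) = 1 + (T' - T) * oj := by
    rw [mul_assoc, ← mul_assoc (1 + S * ol), e2, one_mul]
    have : T' * oj * (T * oj) = 0 := by rw [mul_assoc, ← mul_assoc oj, hT, mul_assoc T, hj, mul_zero, mul_zero]
    rw [mul_add, mul_one, add_mul, one_mul, mul_neg, this, sub_mul]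
    abel
  rwa [e4] at h3

theorem comm_aux {K P X : R} (hK : K = P + P - 1) (h2 : (2 : F) ≠ 0) (h : K * X = X * K) : P * X = X * P := by
  rw [hK] at h
  have h3 : (2 : F) • (P * X) = (2 : F) • (X * P) := by
    have e1 : (2 : F) • (P * X) = (P + P - 1) * X + X := by
      rw [sub_mul, add_mul, one_mul, two_smul]; abel
    have e2 : (2 : F) • (X * P) = X * (P + P - 1) + X := by
      rw [mul_sub, mul_add, mul_one, two_smul]; abel
    rw [e1, e2, h]
  have h5 := congrArg ((2 : F)⁻¹ • ·) h3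
  simp only [smul_smul, inv_mul_cancel₀ h2, one_smul] at h5
  exact h5

theorem anti_aux {K P X : R} (hK : K = P + P - 1) (h2 : (2 : F) ≠ 0) (h : K * X = -X * K) :
    P * X + X * P = X := by
  rw [hK] at h
  have h3 : (2 : F) • (P * X + X * P) = (2 : F) • X := by
    have e1 : (2 : F) • (P * X + X * P) = (P + P - 1) * X - -X * (P + P - 1) + (X + X) := by
      rw [sub_mul, add_mul, one_mul, two_smul, mul_sub, mul_add, mul_one, neg_mul]; abel
    rw [e1, h, sub_self, zero_add, two_smul]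
  have h5 := congrArg ((2 : F)⁻¹ • ·) h3
  simp only [smul_smul, inv_mul_cancel₀ h2, one_smul] at h5
  exact h5

theorem decomp_aux {f A C o : R} (h1 : f * (A + C * o) = (A + C * o) * f) (h2 : f * o = o * f) :
    f * A - A * f + (f * C - C * f) * o = 0 := by
  have e : f * A - A * f + (f * C - C * f) * o = f * (A + C * o) - (A + C * o) * f := by
    rw [sub_mul, mul_add, add_mul, mul_assoc C f o, h2]
    simp only [mul_assoc]
    abel
  rw [e, h1, sub_self]

end gen

variable {F : Type*} [Field F] {κ : Type*} [Fintype κ] [DecidableEq κ] {ι : Type*} [Fintype ι] [DecidableEq ι]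
  {q : QuadraticForm F (κ → F)} {w w' : κ → F}

/-- the involution `2 pp - 1` -/
noncomputable def th (q : QuadraticForm F (κ → F)) {w w' : κ → F} (hyp : Hyp q w w') : (κ → F) ≃ₗ[F] (κ → F) :=
  LinearEquiv.ofInvolutive (pp q w w' + pp q w w' - 1) (by
    intro v
    simp only [LinearMap.sub_apply, LinearMap.add_apply, Module.End.one_apply, pp_apply, polar_add_right,
      polar_sub_right, polar_smul_right, hyp.pair, hyp.pair', hyp.polar_left, hyp.polar_right, smul_eq_mul]
    module)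

theorem th_coe (hyp : Hyp q w w') : ((th q hyp : (κ → F) ≃ₗ[F] (κ → F)) : Module.End F (κ → F)) =
    pp q w w' + pp q w w' - 1 := by
  refine LinearMap.ext fun v => ?_
  rfl

theorem th_apply (hyp : Hyp q w w') (v : κ → F) :
    th q hyp v = (2 * polar q w v) • w' + (2 * polar q w' v) • w - v := by
  have := LinearMap.congr_fun (th_coe hyp) v
  rw [LinearEquiv.coe_coe] at this
  rw [this, LinearMap.sub_apply, LinearMap.add_apply, Module.End.one_apply, pp_apply]
  module

theorem th_w (hyp : Hyp q w w') : th q hyp w = w := by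
  rw [th_apply, hyp.polar_left, hyp.pair']
  module

theorem th_mul (hyp : Hyp q w w') : th q hyp * th q hyp = 1 := by
  refine LinearEquiv.ext fun v => ?_
  exact (th q hyp).symm_apply_apply v

theorem th_mem_O (h2 : (2 : F) ≠ 0) (hyp : Hyp q w w') : th q hyp ∈ O q := by
  refine mem_O_of_polar h2 fun x y => ?_
  simp only [th_apply, polar_add_left, polar_sub_left, polar_smul_left, polar_add_right, polar_sub_right,
    polar_smul_right, hyp.pair, hyp.pair', hyp.polar_left, hyp.polar_right, smul_eq_mul, polar_comm q x w,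
    polar_comm q x w']
  ring

/-! ### the setup -/

variable {M : Subgroup (((ι → κ) → F) ≃ₗ[F] ((ι → κ) → F))}

theorem cj_om_fix (i : ι) {g : (κ → F) ≃ₗ[F] (κ → F)} (hg : g ∈ O q) (hw : g w = w) :
    cj (slE i g) (sl i (om q w)) = sl i (om q w) := by
  rw [cj_slE_sl, cj_om hg, hw]

theorem CC_decomp (hyp : Hyp q w w') {m l : ι} {A C : Module.End F ((ι → κ) → F)}
    (hA : A ∈ CC F κ m) (hC : C ∈ CC F κ m) (h : A + C * sl m (om q w) ∈ CC F κ l) (hlm : l ≠ m) :
    A ∈ CC F κ l ∧ C ∈ CC F κ l := by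
  have key : ∀ f : Module.End F (κ → F), sl l f * A - A * sl l f = 0 ∧ sl l f * C - C * sl l f = 0 := by
    intro f
    have hf : (sl l f : Module.End F ((ι → κ) → F)) ∈ CC F κ m := sl_mem_CC (Ne.symm hlm) f
    refine CC_indep hyp (i := m) (sub_mem (mul_mem hf hA) (mul_mem hA hf))
      (sub_mem (mul_mem hf hC) (mul_mem hC hf)) ?_
    have h1 := mem_CC.1 h f
    have h2 : (sl l f : Module.End F ((ι → κ) → F)) * sl m (om q w) = sl m (om q w) * sl l f :=
      sl_comm hlm f _
    exact decomp_aux h1 h2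
  exact ⟨mem_CC.2 fun f => sub_eq_zero.1 (key f).1, mem_CC.2 fun f => sub_eq_zero.1 (key f).2⟩

/-- The abstract setup holds for two slots. -/
theorem setup (h2 : (2 : F) ≠ 0) (hq : Nondeg q) (hT : Thin q M) (hyp : Hyp q w w') {l j : ι} (hlj : l ≠ j) :
    Setup F (IM M) (CC F κ l ⊓ CC F κ j) (sl l (om q w)) (sl j (om q w)) where
  two := h2
  one := IM.one
  mul := fun _ _ => IM.mul
  inv := fun _ _ => IM.inv
  cl := fun _ hX => mem_CC.1 (Algebra.mem_inf.1 hX).1 _
  cj := fun _ hX => mem_CC.1 (Algebra.mem_inf.1 hX).2 _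
  comm := sl_comm (Ne.symm hlj) _ _
  l2 := sl_om_sq hyp.left l
  j2 := sl_om_sq hyp.left j
  th1 := fun Z hZ h => by
    rw [← mul_assoc] at h
    exact CC_om hyp (Algebra.mem_inf.1 hZ).1
      (thin_end h2 hq hT hyp (mul_mem (Algebra.mem_inf.1 hZ).2 (sl_mem_CC (Ne.symm hlj) _)) h)
  th2 := fun _ hZ h => thin_end h2 hq hT hyp (Algebra.mem_inf.1 hZ).2 h
  th3 := fun _ hZ h => thin_end h2 hq hT hyp (Algebra.mem_inf.1 hZ).1 h

/-- conjugation by an element of a third slot -/
theorem g1_of {l j m : ι} (hml : m ≠ l) (hmj : m ≠ j) {g : (κ → F) ≃ₗ[F] (κ → F)} (hg : slE m g ∈ M) :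
    G1 (IM M) (CC F κ l ⊓ CC F κ j) (sl l (om q w)) (sl j (om q w)) (cjA (slE m g)) where
  hP := fun _ hX => hX.cj hg
  hA := fun _ hX => Algebra.mem_inf.2 ⟨cj_slE_mem m g (Algebra.mem_inf.1 hX).1,
    cj_slE_mem m g (Algebra.mem_inf.1 hX).2⟩
  hl := cj_slE_sl_ne hml g _
  hj := cj_slE_sl_ne hmj g _

theorem third {i j : ι} (hc : 3 ≤ Fintype.card ι) (_h : i ≠ j) : ∃ m, m ≠ i ∧ m ≠ j := by
  classical
  by_contra hcon
  push Not at hcon
  have h1 : (Finset.univ : Finset ι) ⊆ {i, j} := by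
    intro m _
    by_cases hm : m = i
    · simp [hm]
    · simp [hcon m hm]
  have h2 := Finset.card_le_card h1
  have h3 : ({i, j} : Finset ι).card ≤ 2 := Finset.card_le_two
  rw [Finset.card_univ] at h2
  omega

/-- the twist in two slots is in `M` -/
theorem twist_mem [Finite F] (h2 : (2 : F) ≠ 0) (hG : Good (QT q ι)) (hM : Over q M) {μ : (κ → F) ≃ₗ[F] (κ → F)}
    {a b : ℤ} (hμ : Tw q w w' μ a b) (hc : 3 ≤ Fintype.card ι) {i j : ι} (hij : i ≠ j) :
    slE i μ⁻¹ * slE j μ ∈ M := by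
  obtain ⟨c, hci, hcj⟩ := third hc hij
  -- `y = μ_c μ_i⁻¹`
  have hy : slE c μ * slE i μ⁻¹ ∈ O (QT q ι) := by
    have e : slE c μ * slE i μ⁻¹ = opE (Function.update (Pi.mulSingle c μ) i μ⁻¹) := by
      refine tp_extE fun x => ?_
      rw [LinearEquiv.mul_apply, slE_tp, slE_tp, opE_tp]
      congr 1
      funext n
      by_cases hn : n = i
      · subst hn
        rw [Function.update_of_ne (Ne.symm hci), Function.update_self, Function.update_self]
      · by_cases hn' : n = c
        · subst hn'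
          rw [Function.update_self, Function.update_of_ne hn, Function.update_of_ne hn, Pi.mulSingle_eq_same]
        · rw [Function.update_of_ne hn', Function.update_of_ne hn, Function.update_of_ne hn,
            Pi.mulSingle_eq_of_ne hn']
          rfl
    rw [e]
    refine opE_mem_O_of_sim h2 (c := Function.update (Function.update (fun _ => 1) c (-1)) i (-1)) ?_ ?_
    · intro n x y
      by_cases hn : n = i
      · subst hn
        rw [Function.update_self, Function.update_self]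
        exact hμ.inv_sim x y
      · rw [Function.update_of_ne hn, Function.update_of_ne hn]
        by_cases hn' : n = c
        · subst hn'
          rw [Pi.mulSingle_eq_same, Function.update_self]
          exact hμ.sim x y
        · rw [Pi.mulSingle_eq_of_ne hn', Function.update_of_ne hn', one_mul]
          rfl
    · rw [Finset.prod_update_of_mem (Finset.mem_univ i), ← Finset.mul_prod_erase (Finset.univ \ {i}) _
        (a := c) (by simp [hci]), Function.update_self, Finset.prod_eq_one]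
      · norm_num
      · intro n hn
        rw [Function.update_of_ne]
        simp at hn
        exact hn.1
  have hs := pe_mem_O (q := q) (ι := ι) h2 (Equiv.swap i j)
  have e : slE i μ⁻¹ * slE j μ = (slE c μ * slE i μ⁻¹) * pe (Equiv.swap i j) * (slE c μ * slE i μ⁻¹)⁻¹ *
      (pe (Equiv.swap i j))⁻¹ := by
    have h3 : pe (Equiv.swap i j) * (slE c μ * slE i μ⁻¹)⁻¹ * (pe (Equiv.swap i j))⁻¹ =
        slE (F := F) j μ * slE c μ⁻¹ := by
      rw [mul_inv_rev, ← map_inv, ← map_inv, inv_inv]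
      have h4 := pe_conj_slE (Equiv.swap i j) i μ
      have h5 := pe_conj_slE (Equiv.swap i j) c μ⁻¹
      rw [Equiv.swap_apply_left] at h4
      rw [Equiv.swap_apply_of_ne_of_ne hci hcj] at h5
      calc pe (Equiv.swap i j) * (slE i μ * slE c μ⁻¹) * (pe (Equiv.swap i j))⁻¹
          = (pe (Equiv.swap i j) * slE i μ * (pe (Equiv.swap i j))⁻¹) *
            (pe (Equiv.swap i j) * slE c μ⁻¹ * (pe (Equiv.swap i j))⁻¹) := by group
        _ = _ := by rw [h4, h5]
    rw [mul_assoc, mul_assoc, ← mul_assoc (pe (Equiv.swap i j)), h3, mul_assoc, ← slE_comm hcj, ← mul_assoc (slE i μ⁻¹),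
      slE_comm (Ne.symm hci), mul_assoc (slE c μ⁻¹), ← mul_assoc, ← map_mul, mul_inv_cancel, map_one, one_mul]
  refine hM.2 _ ?_ ?_
  · rw [e, ← hG.commutator_eq_E]
    exact Subgroup.commutator_mem_commutator hy hs
  · rw [slE_eq, slE_eq, ← map_mul]
    exact opE_isMono _

theorem hd_of (H : Hyp7 q) (hyp : Hyp q w w') : ∃ z, polar q w z = 0 ∧ polar q w' z = 0 ∧ q z ≠ 0 :=
  exists_nonsing_perp H.nd (by rw [Module.finrank_fintype_fun_eq_card]; exact H.three) hyp

theorem slE_th_toEnd (hyp : Hyp q w w') (m : ι) :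
    ((slE m (th q hyp) : ((ι → κ) → F) ≃ₗ[F] ((ι → κ) → F)) : Module.End F ((ι → κ) → F)) =
      sl m (pp q w w') + sl m (pp q w w') - 1 := by
  rw [slE_toEnd, th_coe, sl_sub, sl_add, sl_one]

/-- `θ_m θ_j ∈ M` -/
theorem th_mem [Finite F] (h2 : (2 : F) ≠ 0) (hG : Good (QT q ι)) (hM : Over q M) (hyp : Hyp q w w') (m j : ι) :
    slE m (th q hyp) * slE j (th q hyp) ∈ M := by
  refine hM.2 _ (slE_mul_slE_mem_E h2 hG m j (th_mem_O h2 hyp)) ?_
  rw [slE_eq, slE_eq, ← map_mul]
  exact opE_isMono _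

theorem cj_th_pair_self (hyp : Hyp q w w') {m j : ι} {X : Module.End F ((ι → κ) → F)} (hX : X ∈ CC F κ j) :
    cj (slE m (th q hyp) * slE j (th q hyp)) X = cj (slE m (th q hyp)) X := by
  rw [← cj_cj, cj_slE_self _ hX]

theorem cj_th_pair_om (h2 : (2 : F) ≠ 0) (hyp : Hyp q w w') (m j i : ι) :
    cj (slE m (th q hyp) * slE j (th q hyp)) (sl i (om q w)) = sl i (om q w) := by
  have h : ∀ n : ι, cj (slE n (th q hyp)) (sl i (om q w)) = sl i (om q w) := by
    intro n
    by_cases hn : n = i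
    · subst hn
      exact cj_om_fix n (th_mem_O h2 hyp) (th_w hyp)
    · exact cj_slE_sl_ne hn _ _
  rw [← cj_cj, h, h]

theorem siegel_comm {w z z' : κ → F} (hw : q w = 0) (hz : polar q w z = 0) (hz' : polar q w z' = 0) :
    siegel q w z hw hz * siegel q w z' hw hz' = siegel q w z' hw hz' * siegel q w z hw hz := by
  rw [siegel_mul hw hz hz' (by rw [polar_add_right, hz, hz', add_zero]),
    siegel_mul hw hz' hz (by rw [polar_add_right, hz, hz', add_zero])]
  ext v
  rw [siegel_apply, siegel_apply, add_comm z z']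

/-- the pairs are trivial -/
theorem main_dd [Finite F] (H : Hyp7 q) (hG : Good (QT q ι)) (hM : Over q M) (hT : Thin q M) (hyp : Hyp q w w')
    {μ : (κ → F) ≃ₗ[F] (κ → F)} {a b : ℤ} (hμ : Tw q w w' μ a b) (hc : 3 ≤ Fintype.card ι) {l j : ι} (hlj : l ≠ j)
    {S T : Module.End F ((ι → κ) → F)}
    (h : PD F (IM M) (CC F κ l ⊓ CC F κ j) (sl l (om q w)) (sl j (om q w)) S T) : S = 0 ∧ T = 0 := by
  obtain ⟨m, hml, hmj⟩ := third hc hlj
  obtain ⟨z0, hz0, hz0', hzn⟩ := hd_of H hyp
  have hd : ∃ z, polar q w z = 0 ∧ polar q w' z = 0 ∧ q z ≠ 0 := ⟨z0, hz0, hz0', hzn⟩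
  have h2 := H.two
  let A := CC F κ l ⊓ CC F κ j
  -- the fixed operators
  have hNC : ∀ X : Module.End F ((ι → κ) → F), (∀ z : {z : κ → F // polar q w z = 0},
      cjA (slE m (siegel q w z.1 hyp.left z.2)) X = X) → NC q w m X := fun X hX =>
    NC.of_siegel h2 hyp.left fun z hz => hX ⟨z, hz⟩
  have hmem1 : ∀ {X : Module.End F ((ι → κ) → F)}, X ∈ CC F κ l ⊓ CC F κ j → X ∈ CC F κ l :=
    fun hX => (Algebra.mem_inf.1 hX).1
  have hmem2 : ∀ {X : Module.End F ((ι → κ) → F)}, X ∈ CC F κ l ⊓ CC F κ j → X ∈ CC F κ j :=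
    fun hX => (Algebra.mem_inf.1 hX).2
  refine (setup H.two H.nd hT hyp hlj).dd_zero
    (I := {z : κ → F // polar q w z = 0}) (a := a) (b := b)
    (fun z => cjA (slE m (siegel q w z.1 hyp.left z.2)))
    (fun z => g1_of hml hmj (hM.siegel_mem H.two hG m hyp.left z.2))
    (fun z z' X => ?_) (fun z => ?_)
    (cjA (slE m (th q hyp) * slE j (th q hyp))) ?_ (fun X => ?_) (fun X hX z => ?_)
    (cjA (slE m μ⁻¹ * slE l μ)) (fun X hX => hX.cj (twist_mem h2 hG hM hμ hc hml)) (fun X hX => ?_) ?_ ?_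
    (fun X hX => cj_inj hX) hμ.ane (fun X hX hX1 hX2 => ?_)
    (o := sl m (om q w)) ?_ (cjA (slE m (siegel q w' z0 hyp.right hz0')))
    (g1_of hml hmj (hM.siegel_mem H.two hG m hyp.right hz0')) (fun X hX hX1 hX2 => ?_) h
  · -- commutation
    rw [cjA_apply, cjA_apply, cjA_apply, cjA_apply, cj_cj, cj_cj, ← map_mul, ← map_mul, siegel_comm]
  · -- nilpotency
    obtain ⟨n, hn⟩ := cj_sub_nil (k := slE m (siegel q w z.1 hyp.left z.2)) ⟨3, by
      rw [slE_toEnd, ← sl_one m, ← sl_sub, ← slA_apply, ← map_pow, siegel_sub_one_cube, map_zero]⟩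
    exact ⟨n, hn⟩
  · -- the involution
    exact
      { hP := fun _ hX => hX.cj (th_mem h2 hG hM hyp m j)
        hA := fun X hX => by
          rw [cjA_apply, cj_th_pair_self hyp (hmem2 hX)]
          exact Algebra.mem_inf.2 ⟨cj_slE_mem m _ (hmem1 hX), cj_slE_mem m _ (hmem2 hX)⟩
        hl := cj_th_pair_om h2 hyp m j l
        hj := cj_th_pair_om h2 hyp m j j }
  · have e : (slE m (th q hyp) * slE j (th q hyp)) * (slE m (th q hyp) * slE j (th q hyp)) =
        (1 : ((ι → κ) → F) ≃ₗ[F] ((ι → κ) → F)) := by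
      rw [mul_assoc, ← mul_assoc (slE j (th q hyp)), slE_comm (Ne.symm hmj), mul_assoc, ← mul_assoc, ← map_mul,
        ← map_mul, th_mul, map_one, map_one, one_mul]
    rw [cjA_apply, cjA_apply, cj_cj, e, one_cj]
  · -- the involution normalises the Siegel group
    have hO := th_mem_O h2 hyp
    have hz : polar q w (th q hyp z.1) = 0 := by
      have := polar_map hO w z.1
      rw [th_w] at this
      rw [this]
      exact z.2
    have hX' := hX ⟨th q hyp z.1, hz⟩
    rw [cjA_apply] at hX' ⊢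
    have e : slE m (siegel q w z.1 hyp.left z.2) * (slE m (th q hyp) * slE j (th q hyp)) =
        (slE m (th q hyp) * slE j (th q hyp)) * slE m (siegel q w (th q hyp z.1) hyp.left hz) := by
      have e1 : th q hyp * siegel q w (th q hyp z.1) hyp.left hz * (th q hyp)⁻¹ =
          siegel q w z.1 hyp.left z.2 := by
        have h5 : th q hyp (th q hyp z.1) = z.1 := (th q hyp).symm_apply_apply z.1
        rw [siegel_conj hO hyp.left hz (by rw [th_w]; exact hyp.left) (by rw [th_w, h5]; exact z.2)]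
        ext v
        rw [siegel_apply, siegel_apply, th_w, h5]
      rw [← e1, map_mul, map_mul, map_inv]
      rw [mul_assoc (slE m (th q hyp)) (slE j (th q hyp)), slE_comm (Ne.symm hmj) (th q hyp)
        (siegel q w (th q hyp z.1) hyp.left hz)]
      group
    rw [cjA_apply, cj_cj, e, ← cj_cj, hX']
  · -- the twist preserves `A`
    rw [cjA_apply, ← cj_cj]
    exact Algebra.mem_inf.2 ⟨cj_slE_mem m _ (cj_slE_mem l _ (hmem1 hX)),
      cj_slE_mem m _ (cj_slE_mem l _ (hmem2 hX))⟩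
  · rw [cjA_apply, ← cj_cj, cj_slE_sl, cj_om_sim (neg_ne_zero.2 one_ne_zero) hμ.sim, hμ.fw, inv_neg, inv_one,
      sl_smul, cj_smul', cj_slE_sl_ne hml]
    exact neg_one_smul_end _
  · rw [cjA_apply, ← cj_cj, cj_slE_sl_ne hlj, cj_slE_sl_ne hmj]
  · -- odd
    have e1 : ∀ Y ∈ CC F κ l, cjA (slE m μ⁻¹ * slE l μ) Y = cj (slE m μ⁻¹) Y := by
      intro Y hY
      rw [cjA_apply, ← cj_cj, cj_slE_self _ hY]
    rw [e1 X (hmem1 hX), e1 _ (cj_slE_mem m _ (hmem1 hX))]
    refine odd_rel h2 hyp hd hμ (hNC X hX1) ?_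
    rw [cjA_apply, cj_th_pair_self hyp (hmem2 hX)] at hX2
    exact anti_aux (slE_th_toEnd hyp m) h2 ((cj_eq_iff _ _ _).1 hX2)
  · -- `τ o = - o`
    rw [cjA_apply, ← cj_cj, cj_slE_sl_ne (Ne.symm hml), cj_slE_sl,
      cj_om_sim (neg_ne_zero.2 one_ne_zero) hμ.inv_sim, hμ.inv_w, inv_neg, inv_one, sl_smul]
    exact neg_one_smul_end _
  · -- even
    rw [cjA_apply, cj_th_pair_self hyp (hmem2 hX)] at hX2
    have hpp := comm_aux (slE_th_toEnd hyp m) h2 ((cj_eq_iff _ _ _).1 hX2)
    obtain ⟨B, hB, C, hC, rfl⟩ := exists_even h2 H.nd hyp hd (hNC X hX1) hpp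
    obtain ⟨hBl, hCl⟩ := CC_decomp hyp hB hC (hmem1 hX) (Ne.symm hml)
    refine ⟨B, C, rfl, ?_, ?_, ?_, ?_, ?_⟩
    · rw [cjA_apply, ← cj_cj, cj_slE_self _ hBl, cj_slE_self _ hB]
    · rw [cjA_apply, ← cj_cj, cj_slE_self _ hCl, cj_slE_self _ hC]
    · exact cj_slE_self _ hB
    · exact cj_slE_self _ hC
    · intro h0
      have hO := siegel_mem_O (Q := q) hyp.right hz0'
      rw [cjA_apply, cj_slE_sl, cj_om hO, ← sl_sub] at h0
      refine CC_eq_zero hC ?_ h0
      intro h3
      have h4 := LinearMap.congr_fun h3 w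
      rw [LinearMap.sub_apply, om_apply, om_apply, hyp.polar_left, zero_smul, zero_sub, LinearMap.zero_apply,
        neg_eq_zero] at h4
      have h5 : siegel q w' z0 hyp.right hz0' w ≠ 0 := fun h =>
        hyp.left_ne ((map_eq_zero_iff _ (siegel q w' z0 hyp.right hz0').injective).1 h)
      have h6 := (smul_eq_zero.1 h4).resolve_right h5
      rw [siegel_apply, polar_sub_left, polar_sub_left, polar_add_left, polar_smul_left, polar_smul_left,
        polar_smul_left, hyp.pair', hyp.polar_left, polar_comm q z0 w, hz0] at h6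
      simp at h6
      exact hzn h6

/-- **The main lemma.** -/
theorem main_zero [Finite F] (H : Hyp7 q) (hG : Good (QT q ι)) (hM : Over q M) (hT : Thin q M) (hyp : Hyp q w w')
    {μ : (κ → F) ≃ₗ[F] (κ → F)} {a b : ℤ} (hμ : Tw q w w' μ a b) (hc : 3 ≤ Fintype.card ι) {l j : ι} (hlj : l ≠ j)
    {S T : Module.End F ((ι → κ) → F)} (hT1 : T ∈ CC F κ j) (hS : S ∈ CC F κ l) (hS' : S ∈ CC F κ j)
    (h : IM M ((1 + T * sl j (om q w)) * (1 + S * sl l (om q w)))) : S = 0 := by
  have h2 := H.two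
  have hd := hd_of H hyp
  -- elements of `M` which fix everything but `T`
  have step : ∀ k ∈ M, cj k (sl j (om q w)) = sl j (om q w) → cj k (sl l (om q w)) = sl l (om q w) →
      cj k S = S → cj k T ∈ CC F κ j → cj k T = T := by
    intro k hk hj hl hkS hkT
    have h1 := h.cj hk
    rw [cj_mul', cj_add', cj_add', cj_one', cj_mul', cj_mul', hj, hl, hkS] at h1
    have h3 := b_aux (P := IM M) (fun _ _ => IM.mul) (fun _ _ => IM.inv) (sl_om_sq hyp.left j)
      (sl_om_sq hyp.left l) (mem_CC.1 hT1 _) (mem_CC.1 hS _) h h1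
    exact sub_eq_zero.1 (thin_end h2 H.nd hT hyp (sub_mem hkT hT1) h3)
  have hNC : NC q w l T := NC.of_siegel h2 hyp.left fun z hz => by
    refine step _ (hM.siegel_mem h2 hG l hyp.left hz) (cj_slE_sl_ne hlj _ _)
      (cj_om_fix l (siegel_mem_O hyp.left hz) ?_) (cj_slE_self _ hS) (cj_slE_mem l _ hT1)
    rw [siegel_apply, hyp.polar_left, polar_comm q z w, hz]
    simp
  have hth : cj (slE l (th q hyp)) T = T := by
    have h1 := step _ (th_mem h2 hG hM hyp l j) (cj_th_pair_om h2 hyp l j j) (cj_th_pair_om h2 hyp l j l)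
      (by rw [cj_th_pair_self hyp hS', cj_slE_self _ hS])
      (by rw [cj_th_pair_self hyp hT1]; exact cj_slE_mem l _ hT1)
    rwa [cj_th_pair_self hyp hT1] at h1
  have hpp := comm_aux (slE_th_toEnd hyp l) h2 ((cj_eq_iff _ _ _).1 hth)
  obtain ⟨T0, hT0, T1, hT1', rfl⟩ := exists_even h2 H.nd hyp hd hNC hpp
  obtain ⟨hT0j, hT1j⟩ := CC_decomp hyp hT0 hT1' hT1 (Ne.symm hlj)
  have hn : (-1 : F) ≠ 0 := neg_ne_zero.2 one_ne_zero
  refine (main_dd H hG hM hT hyp hμ hc hlj ((setup H.two H.nd hT hyp hlj).of_b (cjA (slE l μ⁻¹ * slE j μ))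
    (fun X hX => hX.cj (twist_mem h2 hG hM hμ hc hlj)) ?_ ?_ (Algebra.mem_inf.2 ⟨hT0, hT0j⟩)
    (Algebra.mem_inf.2 ⟨hT1', hT1j⟩) (Algebra.mem_inf.2 ⟨hS, hS'⟩) ?_ ?_ ?_ h)).1
  · rw [cjA_apply, ← cj_cj, cj_slE_sl_ne (Ne.symm hlj), cj_slE_sl, cj_om_sim hn hμ.inv_sim, hμ.inv_w, inv_neg,
      inv_one, sl_smul]
    exact neg_one_smul_end _
  · rw [cjA_apply, ← cj_cj, cj_slE_sl, cj_om_sim hn hμ.sim, hμ.fw, inv_neg, inv_one, sl_smul, cj_smul',
      cj_slE_sl_ne hlj]
    exact neg_one_smul_end _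
  · rw [cjA_apply, ← cj_cj, cj_slE_self _ hT0j, cj_slE_self _ hT0]
  · rw [cjA_apply, ← cj_cj, cj_slE_self _ hT1j, cj_slE_self _ hT1']
  · rw [cjA_apply, ← cj_cj, cj_slE_self _ hS', cj_slE_self _ hS]

end Cfsg.Agent.H889.C7O
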