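import Cfsg.Agent.H889.C7O.Ops
import Cfsg.Agent.H883.C7.Slots
import Cfsg.Agent.H829.C7.Std

/-!
# Elements carrying slots to slots are monomial (task 1882)

* `isMono_of_carries` : an element which carries every slot to a slot is monomial;
* `isMono_rU` : `α ⊗ 1` is monomial if `α` is;
* `isMono_of_unique` : everything is monomial if there is one slot.
-/

set_option autoImplicit false
set_option linter.unusedSectionVars false

namespace Cfsg.Agent.H889.C7O

open Cfsg.Agent.H883
open QuadraticMap hiding proj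
open Cfsg.Agent.LieClassical.OrthCore Cfsg.Agent.LieClassical.OrthTrans
open Cfsg.Agent.H882.Ten Cfsg.Agent.LieClassical.OrthFinite
open Cfsg.Agent.H883.C7

variable {F : Type*} [Field F] {κ : Type*} [Fintype κ] [DecidableEq κ] {ι : Type*} [Fintype ι] [DecidableEq ι]
  {q : QuadraticForm F (κ → F)}

theorem isMono_rU (i : ι) {α : (({l // l ≠ i} → κ) → F) ≃ₗ[F] (({l // l ≠ i} → κ) → F)} (hα : IsMono α) :
    IsMono (rU (isTen F κ i) α) := by
  obtain ⟨f, σ, rfl⟩ := hα
  refine ⟨ins i f 1, Equiv.Perm.ofSubtype σ, ?_⟩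
  rw [map_mul]
  congr 1
  · exact tm_opE i f 1
  · refine tp_extE fun x => ?_
    conv_lhs => rw [tp_eq_ten i]
    rw [rU_apply, pe_tp, pe_tp, ten_tp, ← map_inv]
    congr 1
    funext n
    by_cases hn : n = i
    · subst hn
      rw [ins_same, Equiv.Perm.ofSubtype_apply_of_not_mem]
      simp
    · rw [ins_ne _ _ _ hn]
      have := Equiv.Perm.ofSubtype_apply_coe σ⁻¹ ⟨n, hn⟩
      exact congrArg x this.symm

theorem isMono_of_unique [Unique ι] (α : ((ι → κ) → F) ≃ₗ[F] ((ι → κ) → F)) : IsMono α := by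
  let e : (κ → F) ≃ₗ[F] ((ι → κ) → F) := LinearEquiv.funCongrLeft F F (Equiv.funUnique ι κ)
  have he : ∀ x : ι → (κ → F), C7.tp x = e (x default) := by
    intro x
    funext a
    rw [C7.tp_apply, Fintype.prod_unique]
    rfl
  refine ⟨fun _ => e.trans (α.trans e.symm), 1, ?_⟩
  refine tp_extE fun x => ?_
  rw [map_one, mul_one, opE_tp, he, he]
  exact (e.apply_symm_apply _).symm

theorem pe_sl (σ : Equiv.Perm ι) (i : ι) (f : Module.End F (κ → F)) (v : (ι → κ) → F) :
    pe σ (sl i f v) = sl (σ i) f (pe σ v) := by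
  have : ((pe σ : ((ι → κ) → F) ≃ₗ[F] ((ι → κ) → F)) : Module.End F ((ι → κ) → F)) ∘ₗ sl i f =
      sl (σ i) f ∘ₗ ((pe σ : ((ι → κ) → F) ≃ₗ[F] ((ι → κ) → F)) : Module.End F ((ι → κ) → F)) := tp_ext fun x => by
    rw [LinearMap.comp_apply, LinearMap.comp_apply, sl_tp, LinearEquiv.coe_coe, pe_tp, pe_tp, sl_tp]
    congr 1
    funext j
    by_cases hj : j = σ i
    · subst hj
      have : σ⁻¹ (σ i) = i := σ.symm_apply_apply i
      rw [this, Function.update_self, Function.update_self]
    · rw [Function.update_of_ne hj, Function.update_of_ne]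
      intro h
      apply hj
      rw [← h]
      exact (σ.apply_symm_apply j).symm
  exact LinearMap.congr_fun this v

theorem opE_sl (T : ι → ((κ → F) ≃ₗ[F] (κ → F))) (i : ι) (f : Module.End F (κ → F)) (v : (ι → κ) → F) :
    opE T (sl i f v) = sl i (cj (T i) f) (opE T v) := by
  have : ((opE T : ((ι → κ) → F) ≃ₗ[F] ((ι → κ) → F)) : Module.End F ((ι → κ) → F)) ∘ₗ sl i f =
      sl i (cj (T i) f) ∘ₗ ((opE T : ((ι → κ) → F) ≃ₗ[F] ((ι → κ) → F)) : Module.End F ((ι → κ) → F)) :=
    tp_ext fun x => by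
      rw [LinearMap.comp_apply, LinearMap.comp_apply, sl_tp, LinearEquiv.coe_coe, opE_tp, opE_tp, sl_tp]
      congr 1
      funext j
      by_cases hj : j = i
      · subst hj
        rw [Function.update_self, Function.update_self, cj_apply]
        have : (T j)⁻¹ (T j (x j)) = x j := LinearEquiv.symm_apply_apply (T j) _
        rw [this]
      · rw [Function.update_of_ne hj, Function.update_of_ne hj]
  exact LinearMap.congr_fun this v

/-- An element normalising every slot algebra is a tensor product. -/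
theorem exists_opE [Nonempty ι] (h2 : (2 : F) ≠ 0) (hq : Nondeg q) (hd : 3 ≤ Fintype.card κ) {x : κ → F}
    (hx : q x = 0) (hx0 : x ≠ 0) {h : ((ι → κ) → F) ≃ₗ[F] ((ι → κ) → F)} (hh : ∀ i, Carries h i i) :
    ∃ T : ι → ((κ → F) ≃ₗ[F] (κ → F)), h = opE T := by
  classical
  choose φ hφ using hh
  have hinj : ∀ (i : ι) (f f' : Module.End F (κ → F)), sl i f = sl i f' → f = f' := fun i f f' h => sl_inj hx0 h
  have key : ∀ (i : ι) (f : Module.End F (κ → F)) (g : Module.End F (κ → F)),
      (∀ v, h (sl i f v) = sl i g (h v)) → φ i f = g := by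
    intro i f g hg
    refine hinj i _ _ (LinearMap.ext fun v => ?_)
    obtain ⟨v, rfl⟩ := h.surjective v
    rw [← hφ, hg]
  let Φ : ∀ _ : ι, Module.End F (κ → F) →ₐ[F] Module.End F (κ → F) := fun i =>
    AlgHom.ofLinearMap
      { toFun := φ i
        map_add' := fun f g => key i _ _ fun v => by
          rw [sl_add, sl_add, LinearMap.add_apply, map_add, hφ, hφ, LinearMap.add_apply]
        map_smul' := fun c f => key i _ _ fun v => by
          rw [sl_smul, LinearMap.smul_apply, map_smul, hφ, RingHom.id_apply, sl_smul, LinearMap.smul_apply] }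
      (key i _ _ fun v => by rw [sl_one, Module.End.one_apply, Module.End.one_apply])
      (fun f g => key i _ _ fun v => by
        rw [sl_mul, sl_mul, Module.End.mul_apply, Module.End.mul_apply, hφ, hφ]
        rfl)
  have hΦ : ∀ i, Function.Bijective (Φ i) := by
    intro i
    have h1 : Function.Injective (Φ i).toLinearMap := by
      intro f g hfg
      refine hinj i _ _ (LinearMap.ext fun v => h.injective ?_)
      rw [hφ, hφ]
      have : φ i f = φ i g := hfg
      rw [this]
    exact ⟨h1, LinearMap.surjective_of_injective h1⟩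
  have hT : ∀ i, ∃ T : (κ → F) ≃ₗ[F] (κ → F), ∀ f, φ i f = cj T f := by
    intro i
    obtain ⟨T, hT⟩ := (AlgEquiv.ofBijective (Φ i) (hΦ i)).eq_linearEquivConjAlgEquiv
    refine ⟨T, fun f => ?_⟩
    exact AlgEquiv.congr_fun hT f
  choose T hT using hT
  -- `k = (opE T)⁻¹ h` is scalar
  have hk : ∀ (i : ι) (f : Module.End F (κ → F)) v, (opE T)⁻¹ (h (sl i f v)) = sl i f ((opE T)⁻¹ (h v)) := by
    intro i f v
    have h1 : ∀ v, opE T ((opE T)⁻¹ v) = v := fun v => LinearEquiv.apply_symm_apply (opE T) v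
    apply (opE T).injective
    rw [h1, opE_sl, h1, hφ, hT]
  obtain ⟨c, hc⟩ := scalar_of_comm (ι := ι) h2 hq hd hx hx0
    (T := (((opE T)⁻¹ * h : ((ι → κ) → F) ≃ₗ[F] ((ι → κ) → F)) : Module.End F ((ι → κ) → F)))
    (fun i u z hu hz v => by
      rw [slE_coe, slE_coe]
      exact hk i _ v)
  have hc0 : c ≠ 0 := by
    rintro rfl
    have h1 := hc (C7.tp fun _ : ι => x)
    rw [zero_smul, LinearEquiv.coe_coe] at h1
    exact tp_ne_zero (fun _ : ι => hx0) ((map_eq_zero_iff _ (LinearEquiv.injective _)).1 h1)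
  have hh2 : ∀ v, h v = c • opE T v := by
    intro v
    have h1 := congrArg (opE T) (hc v)
    rw [map_smul] at h1
    rw [← h1]
    exact (LinearEquiv.apply_symm_apply (opE T) (h v)).symm
  obtain ⟨i0⟩ := ‹Nonempty ι›
  let d : ι → F := Function.update (fun _ => 1) i0 c
  have hd0 : ∀ i, d i ≠ 0 := by
    intro i
    by_cases hi : i = i0
    · subst hi
      rw [show d i = c from Function.update_self _ _ _]
      exact hc0
    · rw [show d i = 1 from Function.update_of_ne hi _ _]
      exact one_ne_zero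
  have hprod : ∏ i, d i = c := by
    rw [Finset.prod_update_of_mem (Finset.mem_univ i0)]
    simp
  refine ⟨fun i => (LinearEquiv.smulOfNeZero F (κ → F) (d i) (hd0 i)) * T i, tp_extE fun y => ?_⟩
  rw [hh2, opE_tp, opE_tp]
  have : (fun i => ((LinearEquiv.smulOfNeZero F (κ → F) (d i) (hd0 i)) * T i) (y i)) =
      fun i => d i • (T i (y i)) := rfl
  rw [this, tp_smul_all (fun i => T i (y i)) d, hprod]

/-- **An element which carries every slot to a slot is monomial.** -/
theorem isMono_of_carries [Nonempty ι] (h2 : (2 : F) ≠ 0) (hq : Nondeg q) (hd : 3 ≤ Fintype.card κ) {x : κ → F}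
    (hx : q x = 0) (hx0 : x ≠ 0) {g : ((ι → κ) → F) ≃ₗ[F] ((ι → κ) → F)} (hg : ∀ i, ∃ j, Carries g i j) :
    IsMono g := by
  classical
  choose σ hσ using hg
  have hinj : Function.Injective σ := fun i i' h =>
    Cfsg.Agent.H829.C7.carries_inj (by omega) (hσ i) (by rw [h]; exact hσ i')
  let σ' : Equiv.Perm ι := Equiv.ofBijective σ (Finite.injective_iff_bijective.1 hinj)
  have hh : ∀ i, Carries ((pe σ')⁻¹ * g) i i := by
    intro i f
    obtain ⟨f', hf'⟩ := hσ i f
    refine ⟨f', fun v => ?_⟩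
    show (pe σ')⁻¹ (g (sl i f v)) = sl i f' ((pe σ')⁻¹ (g v))
    have h1 : ∀ v, pe (F := F) (κ := κ) σ' ((pe σ')⁻¹ v) = v := fun v => LinearEquiv.apply_symm_apply (pe σ') v
    apply (pe (F := F) (κ := κ) σ').injective
    rw [h1, pe_sl, h1, hf']
    rfl
  obtain ⟨T, hT⟩ := exists_opE h2 hq hd hx hx0 hh
  have h3 : g = pe σ' * opE T := by rw [← hT]; group
  refine ⟨fun i => T (σ'⁻¹ i), σ', ?_⟩
  rw [← pe_conj_opE, h3]
  group

end Cfsg.Agent.H889.C7O
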